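import Groth.Agent.QCoh.FlatOver
import Groth.Agent.QCoh.PullbackBC
import Mathlib.AlgebraicGeometry.PullbackCarrier
import Mathlib.RingTheory.Flat.FaithfullyFlat.Algebra
import Mathlib.RingTheory.IsTensorProduct
import Mathlib.AlgebraicGeometry.Morphisms.Flat

/-!
# Flatness over a base and base change
-/

set_option backward.isDefEq.respectTransparency false
set_option backward.isDefEq.respectTransparency.types false
set_option linter.style.haveILetI false
set_option autoImplicit false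

universe u

open CategoryTheory CategoryTheory.Limits AlgebraicGeometry TopologicalSpace Opposite TensorProduct

namespace Groth.Agent.FlatBC5

theorem flat_tensor_iff {X S X' T : Scheme.{u}} {u : X ⟶ S} {u' : X' ⟶ T} {g' : X' ⟶ X} {h : T ⟶ S}
    (hc : IsPullback g' u' u h) {F : X.Modules} (hF : Coh.IsQCoh F) {V : S.Opens} (hV : IsAffineOpen V)
    {U : X.Opens} (hU : IsAffineOpen U) (hUV : U ≤ u ⁻¹ᵁ V) {O : T.Opens} (hO : IsAffineOpen O)
    (hOV : O ≤ h ⁻¹ᵁ V) :
    (letI : Algebra Γ(S, V) Γ(T, O) := (h.appLE V O hOV).hom.toAlgebra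
     letI : Module Γ(S, V) Γ(F, U) := Module.compHom _ (u.appLE V U hUV).hom
     Module.Flat Γ(T, O) (Γ(T, O) ⊗[Γ(S, V)] Γ(F, U))) ↔
      ∀ x' : X', g' x' ∈ U → u' x' ∈ O → FlatMod.IsFlatOverAt u' ((Scheme.Modules.pullback g').obj F) x' := by
  let W : X'.Opens := g' ⁻¹ᵁ U ⊓ u' ⁻¹ᵁ O
  have hW : IsAffineOpen W := by
    haveI : IsAffine _ := hV
    haveI : IsAffine _ := hO
    haveI : IsAffine _ := hU
    exact .of_isIso (Scheme.Hom.isPullback_resLE hc hOV hUV (UY := W) rfl).isoPullback.hom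
  have hpo := (isIso_pushoutSection_iff hc hOV hUV (UY := W) rfl).mp
    (isIso_pushoutSection_of_isAffineOpen hc hOV hUV rfl hV hO hU)
  let N := (Scheme.Modules.pullback g').obj F
  letI : Algebra Γ(S, V) Γ(X, U) := (u.appLE V U hUV).hom.toAlgebra
  letI : Algebra Γ(S, V) Γ(T, O) := (h.appLE V O hOV).hom.toAlgebra
  letI : Module Γ(S, V) Γ(F, U) := Module.compHom _ (u.appLE V U hUV).hom
  haveI : IsScalarTower Γ(S, V) Γ(X, U) Γ(F, U) := .of_algebraMap_smul fun _ _ => rfl
  letI : Algebra Γ(X, U) Γ(X', W) := (g'.appLE U W inf_le_left).hom.toAlgebra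
  letI : Algebra Γ(T, O) Γ(X', W) := (u'.appLE O W inf_le_right).hom.toAlgebra
  letI : Algebra Γ(S, V) Γ(X', W) := (u.appLE V U hUV ≫ g'.appLE U W inf_le_left).hom.toAlgebra
  haveI : IsScalarTower Γ(S, V) Γ(X, U) Γ(X', W) := .of_algebraMap_eq fun _ => rfl
  haveI : IsScalarTower Γ(S, V) Γ(T, O) Γ(X', W) := .of_algebraMap_eq fun r => congr($(hpo.w).hom r)
  haveI : Algebra.IsPushout Γ(S, V) Γ(T, O) Γ(X, U) Γ(X', W) :=
    CommRingCat.isPushout_iff_isPushout.mp hpo.flip
  letI : Module Γ(X, U) Γ(N, W) := Module.compHom _ (g'.appLE U W inf_le_left).hom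
  haveI : IsScalarTower Γ(X, U) Γ(X', W) Γ(N, W) := .of_algebraMap_smul fun _ _ => rfl
  let l : Γ(F, U) →ₗ[Γ(X, U)] Γ(N, W) :=
    { toFun := QCoh.pullSec g' F inf_le_left
      map_add' := QCoh.pullSec_add g' F inf_le_left
      map_smul' := fun r m => QCoh.pullSec_smul g' F inf_le_left r m }
  have hb : IsBaseChange Γ(X', W) l :=
    QCoh.isBaseChange_pullback hU g' hW hF inf_le_left (fun _ => rfl) l fun _ => rfl
  letI : Module Γ(T, O) Γ(N, W) := Module.compHom _ (u'.appLE O W inf_le_right).hom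
  haveI : IsScalarTower Γ(T, O) Γ(X', W) Γ(N, W) := .of_algebraMap_smul fun _ _ => rfl
  let e₁ := Algebra.IsPushout.cancelBaseChange Γ(S, V) Γ(T, O) Γ(X, U) Γ(X', W) Γ(F, U)
  let e₂ := (hb.equiv.restrictScalars Γ(T, O))
  constructor
  · intro hflat x' hx₁ hx₂
    have h1 : Module.Flat Γ(T, O) (Γ(X', W) ⊗[Γ(X, U)] Γ(F, U)) := Module.Flat.of_linearEquiv e₁
    have h2 : Module.Flat Γ(T, O) Γ(N, W) := Module.Flat.of_linearEquiv e₂.symm
    exact (QCoh.flat_appLE_iff u' (QCoh.isQCoh_pullback g' hF) hW hO inf_le_right).1 h2 x' ⟨hx₁, hx₂⟩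
  · intro hall
    haveI : Module.Flat Γ(T, O) Γ(N, W) :=
      (QCoh.flat_appLE_iff u' (QCoh.isQCoh_pullback g' hF) hW hO inf_le_right).2 fun x' hx' => hall x' hx'.1 hx'.2
    haveI : Module.Flat Γ(T, O) (Γ(X', W) ⊗[Γ(X, U)] Γ(F, U)) := Module.Flat.of_linearEquiv e₂
    exact Module.Flat.of_linearEquiv e₁.symm

theorem rTensor_cancel {A C M : Type u} [CommRing A] [CommRing C] [Algebra A C] [AddCommGroup M] [Module A M]
    (P : Type u) [AddCommMonoid P] [Module C P] [Module A P] [IsScalarTower A C P] (K : Submodule C P)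
    (z : K ⊗[C] (C ⊗[A] M)) :
    AlgebraTensorModule.cancelBaseChange A C C P M (K.subtype.rTensor (C ⊗[A] M) z) =
      (K.subtype.restrictScalars A).rTensor M (AlgebraTensorModule.cancelBaseChange A C C K M z) := by
  induction z using TensorProduct.induction_on with
  | zero => simp
  | add a b ha hb => simp only [map_add, ha, hb]
  | tmul p w =>
    induction w using TensorProduct.induction_on with
    | zero => simp
    | add a b ha hb => simp only [tmul_add, map_add, ha, hb]
    | tmul c m => simp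

/-- Flatness of a base change is inherited by localizations over the top ring. -/
theorem flat_baseChange_of_isLocalizedModule {A B M M' : Type u} [CommRing A] [CommRing B] [Algebra A B]
    [AddCommGroup M] [Module A M] [Module B M] [IsScalarTower A B M]
    [AddCommGroup M'] [Module A M'] [Module B M'] [IsScalarTower A B M']
    (C : Type u) [CommRing C] [Algebra A C]
    (S : Submonoid B) (f : M →ₗ[B] M') [IsLocalizedModule S f] (h : Module.Flat C (C ⊗[A] M)) :
    Module.Flat C (C ⊗[A] M') := by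
  rw [Module.Flat.iff_rTensor_injectiveₛ] at h ⊢
  intro P _ _ K
  letI : Module A P := Module.compHom P (algebraMap A C)
  haveI : IsScalarTower A C P := IsScalarTower.of_algebraMap_smul fun _ _ => rfl
  have h1 : Function.Injective ((K.subtype.restrictScalars A).rTensor M) := fun a b hab => by
    obtain ⟨a, rfl⟩ := (AlgebraTensorModule.cancelBaseChange A C C K M).surjective a
    obtain ⟨b, rfl⟩ := (AlgebraTensorModule.cancelBaseChange A C C K M).surjective b
    rw [← rTensor_cancel, ← rTensor_cancel] at hab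
    exact congrArg _ (h K ((AlgebraTensorModule.cancelBaseChange A C C P M).injective hab))
  rw [← LinearMap.lTensor_inj_iff_rTensor_inj] at h1
  have h2 : Function.Injective ((K.subtype.restrictScalars A).lTensor M') := by
    rw [← AlgebraTensorModule.coe_lTensor (A := B)] at h1 ⊢
    rw [← IsLocalizedModule.map_lTensor (S := S) (f := K.subtype.restrictScalars A) (g := f)]
    exact IsLocalizedModule.map_injective _ _ _ _ h1
  rw [LinearMap.lTensor_inj_iff_rTensor_inj] at h2
  intro a b hab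
  apply (AlgebraTensorModule.cancelBaseChange A C C K M').injective
  apply h2
  rw [← rTensor_cancel, ← rTensor_cancel, hab]

/-- Changing the base of a tensor product between a ring and a localization of it. -/
theorem flat_tensor_localization {A R C N : Type u} [CommRing A] [CommRing R] [CommRing C] [Algebra A R] [Algebra A C]
    [Algebra R C] [IsScalarTower A R C] [AddCommGroup N] [Module A N] [Module R N] [IsScalarTower A R N]
    (S : Submonoid A) [IsLocalization S R] [h : Module.Flat C (C ⊗[A] N)] : Module.Flat C (C ⊗[R] N) := by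
  haveI := IsLocalization.tensorProduct_compatibleSMul S R C N
  exact Module.Flat.of_linearEquiv (TensorProduct.equivOfCompatibleSMul A R C C N)

variable {X S X' T : Scheme.{u}} {u : X ⟶ S} {u' : X' ⟶ T} {g' : X' ⟶ X} {h : T ⟶ S}
  {F : X.Modules}

theorem exists_charts (u : X ⟶ S) (h : T ⟶ S) (x : X) (t : T) (e : u x = h t) :
    ∃ (V : S.Opens) (U : X.Opens) (O : T.Opens), IsAffineOpen V ∧ IsAffineOpen U ∧ IsAffineOpen O ∧
      U ≤ u ⁻¹ᵁ V ∧ O ≤ h ⁻¹ᵁ V ∧ x ∈ U ∧ t ∈ O := by
  obtain ⟨_, ⟨V, hV, rfl⟩, hxV, -⟩ :=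
    S.isBasis_affineOpens.exists_subset_of_mem_open (Set.mem_univ (u x)) isOpen_univ
  obtain ⟨_, ⟨U, hU, rfl⟩, hxU, hUV⟩ :=
    X.isBasis_affineOpens.exists_subset_of_mem_open (show x ∈ u ⁻¹ᵁ V from hxV) (u ⁻¹ᵁ V).2
  obtain ⟨_, ⟨O, hO, rfl⟩, htO, hOV⟩ :=
    T.isBasis_affineOpens.exists_subset_of_mem_open (show t ∈ h ⁻¹ᵁ V from (e ▸ hxV : h t ∈ V)) (h ⁻¹ᵁ V).2
  exact ⟨V, U, O, hV, hU, hO, hUV, hOV, hxU, htO⟩

theorem isFlatOver_of_baseChange (hc : IsPullback g' u' u h) (hF : Coh.IsQCoh F)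
    (hu : FlatMod.IsFlatOver u F) : FlatMod.IsFlatOver u' ((Scheme.Modules.pullback g').obj F) := fun x' => by
  obtain ⟨V, U, O, hV, hU, hO, hUV, hOV, hxU, htO⟩ := exists_charts u h (g' x') (u' x') congr($(hc.w).base x')
  refine (flat_tensor_iff hc hF hV hU hUV hO hOV).1 ?_ x' hxU htO
  letI : Algebra Γ(S, V) Γ(T, O) := (h.appLE V O hOV).hom.toAlgebra
  letI : Module Γ(S, V) Γ(F, U) := Module.compHom _ (u.appLE V U hUV).hom
  haveI : Module.Flat Γ(S, V) Γ(F, U) := (QCoh.flat_appLE_iff u hF hU hV hUV).2 fun y _ => hu y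
  infer_instance

theorem isFlatOverAt_of_faithful (hc : IsPullback g' u' u h) (hF : Coh.IsQCoh F) (x : X) (t : T) (e : u x = h t)
    (hh : (h.stalkMap t).hom.Flat)
    (hall : ∀ x', FlatMod.IsFlatOverAt u' ((Scheme.Modules.pullback g').obj F) x') :
    FlatMod.IsFlatOverAt u F x := by
  obtain ⟨V, U, O, hV, hU, hO, hUV, hOV, hxU, htO⟩ := exists_charts u h x t e
  have hflat := (flat_tensor_iff hc hF hV hU hUV hO hOV).2 fun x' _ _ => hall x'
  letI : Algebra Γ(S, V) Γ(T, O) := (h.appLE V O hOV).hom.toAlgebra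
  letI : Algebra Γ(S, V) Γ(X, U) := (u.appLE V U hUV).hom.toAlgebra
  letI : Module Γ(S, V) Γ(F, U) := Module.compHom _ (u.appLE V U hUV).hom
  haveI : IsScalarTower Γ(S, V) Γ(X, U) Γ(F, U) := .of_algebraMap_smul fun _ _ => rfl
  haveI : Module.Flat Γ(T, O) (Γ(T, O) ⊗[Γ(S, V)] Γ(F, U)) := hflat
  -- the local ring of `T` at `t`
  let C := T.presheaf.stalk t
  letI : Algebra Γ(T, O) C := QCoh.stalkAlg htO
  letI : Algebra Γ(S, V) C := ((h.appLE V O hOV) ≫ T.presheaf.germ O t htO).hom.toAlgebra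
  haveI : IsScalarTower Γ(S, V) Γ(T, O) C := .of_algebraMap_eq fun _ => rfl
  have h1 : Module.Flat C (C ⊗[Γ(S, V)] Γ(F, U)) :=
    Module.Flat.of_linearEquiv (AlgebraTensorModule.cancelBaseChange Γ(S, V) Γ(T, O) C C Γ(F, U)).symm
  letI := QCoh.stalkModule F hxU
  letI : Module Γ(S, V) (F.presheaf.stalk x) := Module.compHom _ ((u.appLE V U hUV) ≫ X.presheaf.germ U x hxU).hom
  haveI : IsScalarTower Γ(S, V) Γ(X, U) (F.presheaf.stalk x) := .of_algebraMap_smul fun _ _ => rfl
  haveI := QCoh.isLocalizedModule_germLin hF hU hxU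
  haveI h2 : Module.Flat C (C ⊗[Γ(S, V)] F.presheaf.stalk x) :=
    flat_baseChange_of_isLocalizedModule C (hU.primeIdealOf ⟨x, hxU⟩).asIdeal.primeCompl (QCoh.germLin F hxU) h1
  -- over the local ring of `S`
  have htV : h t ∈ V := hOV htO
  let R := S.presheaf.stalk (h t)
  letI : Algebra Γ(S, V) R := QCoh.stalkAlg htV
  haveI := QCoh.isLocalization_stalk' hV htV
  letI : Algebra R C := (h.stalkMap t).hom.toAlgebra
  haveI : IsScalarTower Γ(S, V) R C := .of_algebraMap_eq fun a => by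
    show T.presheaf.germ O t htO (h.appLE V O hOV a) = h.stalkMap t (S.presheaf.germ V (h t) htV a)
    rw [Scheme.Hom.germ_stalkMap_apply]
    exact T.presheaf.germ_res_apply (homOfLE hOV) t htO _
  haveI : Module.Flat R C := hh
  haveI : IsLocalHom (algebraMap R C) := inferInstanceAs (IsLocalHom (h.stalkMap t).hom)
  haveI := Module.FaithfullyFlat.of_flat_of_isLocalHom (A := R) (B := C)
  let eR := S.presheaf.stalkSpecializes (show u x ⤳ h t from e ▸ specializes_rfl)
  letI := FlatMod.moduleStalkOver u F x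
  letI : Module R (F.presheaf.stalk x) := Module.compHom _ eR.hom
  haveI : IsScalarTower Γ(S, V) R (F.presheaf.stalk x) := .of_algebraMap_smul fun a m => by
    show u.stalkMap x (eR (S.presheaf.germ V (h t) htV a)) • m = X.presheaf.germ U x hxU (u.appLE V U hUV a) • m
    rw [TopCat.Presheaf.germ_stalkSpecializes_apply, Scheme.Hom.germ_stalkMap_apply]
    exact congrArg (fun r => r • m) (X.presheaf.germ_res_apply (homOfLE hUV) x hxU _).symm
  haveI : Module.Flat C (C ⊗[R] F.presheaf.stalk x) :=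
    flat_tensor_localization (hV.primeIdealOf ⟨h t, htV⟩).asIdeal.primeCompl
  haveI : Module.Flat R (F.presheaf.stalk x) := Module.Flat.of_flat_tensorProduct R _ C
  rw [QCoh.isFlatOverAt_iff u hV hUV hxU]
  haveI : Module.Flat Γ(S, V) R := IsLocalization.flat R (hV.primeIdealOf ⟨h t, htV⟩).asIdeal.primeCompl
  exact Module.Flat.trans Γ(S, V) R _

end Groth.Agent.FlatBC5
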