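import Groth.Agent.FlatBC5.Basic
import Mathlib.RingTheory.Ideal.Maximal
import Mathlib.RingTheory.Flat.FaithfullyFlat.Basic

/-!
# Nonvanishing of a module in the fibres of a base change
-/

set_option backward.isDefEq.respectTransparency false
set_option backward.isDefEq.respectTransparency.types false
set_option linter.style.haveILetI false
set_option autoImplicit false

universe u

open CategoryTheory CategoryTheory.Limits AlgebraicGeometry TopologicalSpace Opposite TensorProduct

namespace Groth.Agent.FlatBC5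

/-- A nonzero fibre over a prime has a prime over it where it stays nonzero. -/
theorem exists_prime {O B N κ : Type u} [CommRing O] [CommRing B] [Algebra O B] [AddCommGroup N] [Module O N]
    [Module B N] [IsScalarTower O B N] [Field κ] [Algebra O κ] [hE : Nontrivial (N ⊗[O] κ)] :
    ∃ (P : Ideal B) (n : N), P.IsPrime ∧ P.comap (algebraMap O B) = RingHom.ker (algebraMap O κ) ∧
      ∀ b ∉ P, b • (n ⊗ₜ[O] (1 : κ)) ≠ 0 := by
  obtain ⟨n, hn⟩ : ∃ n : N, n ⊗ₜ[O] (1 : κ) ≠ 0 := by
    by_contra h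
    push Not at h
    refine not_subsingleton (N ⊗[O] κ) ⟨fun a b => ?_⟩
    have hz : ∀ z : N ⊗[O] κ, z = 0 := fun z => by
      induction z using TensorProduct.induction_on with
      | zero => rfl
      | add a b ha hb => rw [ha, hb, add_zero]
      | tmul m c =>
        have h1 := congrArg ((LinearMap.mulLeft O c).lTensor N) (h m)
        simpa using h1
    rw [hz a, hz b]
  have hsmul : ∀ (s : O) (m : N) (c : κ), algebraMap O B s • (m ⊗ₜ[O] c) = m ⊗ₜ[O] (algebraMap O κ s * c) := fun s m c => by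
    rw [TensorProduct.smul_tmul', algebraMap_smul, TensorProduct.smul_tmul, Algebra.smul_def]
  have hinj : ∀ s : O, algebraMap O κ s ≠ 0 → ∀ z : N ⊗[O] κ, algebraMap O B s • z = 0 → z = 0 := fun s hs z hz => by
    have h1 : ((LinearMap.mulLeft O (algebraMap O κ s)⁻¹).lTensor N) (algebraMap O B s • z) = z := by
      clear hz
      induction z using TensorProduct.induction_on with
      | zero => simp
      | add a b ha hb => rw [smul_add, map_add, ha, hb]
      | tmul m c => rw [hsmul, LinearMap.lTensor_tmul, LinearMap.mulLeft_apply, inv_mul_cancel_left₀ hs]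
    rw [← h1, hz, map_zero]
  let J : Ideal B := LinearMap.ker (LinearMap.toSpanSingleton B (N ⊗[O] κ) (n ⊗ₜ[O] 1))
  haveI : (RingHom.ker (algebraMap O κ)).IsPrime := RingHom.ker_isPrime (algebraMap O κ)
  let S : Submonoid B := (RingHom.ker (algebraMap O κ)).primeCompl.map (algebraMap O B)
  have hdisj : Disjoint (J : Set B) (S : Set B) := by
    rw [Set.disjoint_left]
    rintro _ hb ⟨s, hs, rfl⟩
    exact hn (hinj s hs _ hb)
  obtain ⟨P, hP, hJP, hPS⟩ := Ideal.exists_le_prime_disjoint J S hdisj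
  refine ⟨P, n, hP, le_antisymm (fun s hs => ?_) (fun s hs => hJP ?_), fun b hb e => hb (hJP e)⟩
  · by_contra hs'
    exact Set.disjoint_left.1 hPS hs ⟨s, hs', rfl⟩
  · show algebraMap O B s • (n ⊗ₜ[O] (1 : κ)) = 0
    rw [hsmul, RingHom.mem_ker.1 hs, zero_mul, TensorProduct.tmul_zero]

theorem residue_germ_congr (S : Scheme.{u}) {V : S.Opens} {y y' : S} (e : y = y') (hy : y ∈ V) (hy' : y' ∈ V)
    (a : Γ(S, V)) : (S.residueFieldCongr e).hom.hom (S.residue y (S.presheaf.germ V y hy a)) =
      S.residue y' (S.presheaf.germ V y' hy' a) := by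
  subst e; simp

theorem residue_germ_eq_zero_iff {S : Scheme.{u}} {V : S.Opens} (hV : IsAffineOpen V) {y : S} (hy : y ∈ V)
    (a : Γ(S, V)) : S.residue y (S.presheaf.germ V y hy a) = 0 ↔ a ∈ (hV.primeIdealOf ⟨y, hy⟩).asIdeal := by
  refine ((IsLocalRing.residue_eq_zero_iff _).trans (IsLocalRing.mem_maximalIdeal _)).trans ?_
  show ¬ IsUnit _ ↔ _
  rw [← S.mem_basicOpen a y hy, QCoh.mem_basicOpen_iff_notMem hV hy, not_not]

/-- If the fibre `(R/m) ⊗ M₀` vanishes, the image of `M₀` lies in `m • M`. -/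
theorem mem_maximal_smul {A R M₀ M K : Type u} [CommRing A] [CommRing R] [IsLocalRing R] [Algebra A R]
    [AddCommGroup M₀] [Module A M₀] [AddCommGroup M] [Module R M] [Module A M] [IsScalarTower A R M]
    [Field K] [Algebra A K] (π : R →+* K) (hsurj : Function.Surjective π)
    (hπ : ∀ a, algebraMap A K a = π (algebraMap A R a)) (l : M₀ →ₗ[A] M) [Subsingleton (K ⊗[A] M₀)] (m : M₀) :
    l m ∈ IsLocalRing.maximalIdeal R • (⊤ : Submodule R M) := by
  let π' : R →ₐ[A] K := { π with commutes' := fun a => (hπ a).symm }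
  have hker : RingHom.ker π' = IsLocalRing.maximalIdeal R :=
    IsLocalRing.eq_maximalIdeal (RingHom.ker_isMaximal_of_surjective π hsurj)
  let ψ : (R ⧸ IsLocalRing.maximalIdeal R) ≃ₐ[A] K :=
    (Ideal.quotientEquivAlgOfEq A hker.symm).trans (Ideal.quotientKerAlgEquivOfSurjective (f := π') hsurj)
  haveI : Subsingleton ((R ⧸ IsLocalRing.maximalIdeal R) ⊗[A] M₀) :=
    (TensorProduct.congr ψ.toLinearEquiv (LinearEquiv.refl A M₀)).toEquiv.subsingleton
  let q : M₀ →ₗ[A] M ⧸ (IsLocalRing.maximalIdeal R • (⊤ : Submodule R M)) :=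
    ((Submodule.mkQ _).restrictScalars A) ∘ₗ l
  have h1 := congrArg (LinearMap.liftBaseChange (R ⧸ IsLocalRing.maximalIdeal R) q)
    (Subsingleton.elim ((1 : R ⧸ IsLocalRing.maximalIdeal R) ⊗ₜ[A] m) 0)
  rw [map_zero, LinearMap.liftBaseChange_tmul, one_smul] at h1
  exact (Submodule.Quotient.mk_eq_zero _).1 h1

variable {X S X' T : Scheme.{u}} {u : X ⟶ S} {u' : X' ⟶ T} {g' : X' ⟶ X} {h : T ⟶ S}
  {F : X.Modules}

theorem exists_fibre_nonzero (hc : IsPullback g' u' u h) (hF : Coh.IsQCoh F) (x : X) (y' : T) (e : u x = h y')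
    (hne : letI := FlatMod.moduleStalkOver u F x
      IsLocalRing.maximalIdeal (S.presheaf.stalk (u x)) • (⊤ : Submodule (S.presheaf.stalk (u x)) (F.presheaf.stalk x)) ≠ ⊤) :
    ∃ x' : X', u' x' = y' ∧
      letI := FlatMod.moduleStalkOver u' ((Scheme.Modules.pullback g').obj F) x'
      IsLocalRing.maximalIdeal (T.presheaf.stalk (u' x')) •
        (⊤ : Submodule (T.presheaf.stalk (u' x')) (((Scheme.Modules.pullback g').obj F).presheaf.stalk x')) ≠ ⊤ := by
  obtain ⟨V, U, O, hV, hU, hO, hUV, hOV, hxU, htO⟩ := exists_charts u h x y' e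
  let W : X'.Opens := g' ⁻¹ᵁ U ⊓ u' ⁻¹ᵁ O
  have hW : IsAffineOpen W := by
    haveI : IsAffine _ := hV
    haveI : IsAffine _ := hO
    haveI : IsAffine _ := hU
    exact .of_isIso (Scheme.Hom.isPullback_resLE hc hOV hUV (UY := W) rfl).isoPullback.hom
  have hpo := (isIso_pushoutSection_iff hc hOV hUV (UY := W) rfl).mp
    (isIso_pushoutSection_of_isAffineOpen hc hOV hUV rfl hV hO hU)
  let N := (Scheme.Modules.pullback g').obj F
  letI : Algebra Γ(S, V) Γ(X, U) := (u.appLE V U hUV).hom.toAlgebra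
  letI : Algebra Γ(S, V) Γ(T, O) := (h.appLE V O hOV).hom.toAlgebra
  letI : Module Γ(S, V) Γ(F, U) := Module.compHom _ (u.appLE V U hUV).hom
  haveI : IsScalarTower Γ(S, V) Γ(X, U) Γ(F, U) := .of_algebraMap_smul fun _ _ => rfl
  letI : Algebra Γ(X, U) Γ(X', W) := (g'.appLE U W inf_le_left).hom.toAlgebra
  letI : Algebra Γ(T, O) Γ(X', W) := (u'.appLE O W inf_le_right).hom.toAlgebra
  letI : Algebra Γ(S, V) Γ(X', W) := (u.appLE V U hUV ≫ g'.appLE U W inf_le_left).hom.toAlgebra
  haveI : IsScalarTower Γ(S, V) Γ(X, U) Γ(X', W) := .of_algebraMap_eq fun _ => rfl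
  haveI : IsScalarTower Γ(S, V) Γ(T, O) Γ(X', W) := .of_algebraMap_eq fun r => congr($(hpo.w).hom r)
  haveI : Algebra.IsPushout Γ(S, V) Γ(T, O) Γ(X, U) Γ(X', W) :=
    CommRingCat.isPushout_iff_isPushout.mp hpo.flip
  letI : Module Γ(X, U) Γ(N, W) := Module.compHom _ (g'.appLE U W inf_le_left).hom
  haveI : IsScalarTower Γ(X, U) Γ(X', W) Γ(N, W) := .of_algebraMap_smul fun _ _ => rfl
  let l : Γ(F, U) →ₗ[Γ(X, U)] Γ(N, W) :=
    { toFun := QCoh.pullSec g' F inf_le_left
      map_add' := QCoh.pullSec_add g' F inf_le_left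
      map_smul' := fun r m => QCoh.pullSec_smul g' F inf_le_left r m }
  have hb : IsBaseChange Γ(X', W) l :=
    QCoh.isBaseChange_pullback hU g' hW hF inf_le_left (fun _ => rfl) l fun _ => rfl
  letI : Module Γ(T, O) Γ(N, W) := Module.compHom _ (u'.appLE O W inf_le_right).hom
  haveI : IsScalarTower Γ(T, O) Γ(X', W) Γ(N, W) := .of_algebraMap_smul fun _ _ => rfl
  let eN : Γ(N, W) ≃ₗ[Γ(T, O)] Γ(T, O) ⊗[Γ(S, V)] Γ(F, U) :=
    (hb.equiv.restrictScalars Γ(T, O)).symm ≪≫ₗ
      Algebra.IsPushout.cancelBaseChange Γ(S, V) Γ(T, O) Γ(X, U) Γ(X', W) Γ(F, U)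
  -- residue fields
  let κ := S.residueField (u x)
  let κ' := T.residueField y'
  letI : Algebra Γ(S, V) κ := (S.presheaf.germ V (u x) (hUV hxU) ≫ S.residue (u x)).hom.toAlgebra
  letI : Algebra Γ(T, O) κ' := (T.presheaf.germ O y' htO ≫ T.residue y').hom.toAlgebra
  letI : Algebra Γ(S, V) κ' := ((algebraMap Γ(T, O) κ').comp (h.appLE V O hOV).hom).toAlgebra
  haveI : IsScalarTower Γ(S, V) Γ(T, O) κ' := .of_algebraMap_eq fun _ => rfl
  letI : Algebra κ κ' := ((S.residueFieldCongr e).hom ≫ h.residueFieldMap y').hom.toAlgebra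
  haveI : IsScalarTower Γ(S, V) κ κ' := .of_algebraMap_eq fun a => by
    show T.residue y' (T.presheaf.germ O y' htO (h.appLE V O hOV a)) =
      h.residueFieldMap y' ((S.residueFieldCongr e).hom.hom (S.residue (u x) (S.presheaf.germ V (u x) (hUV hxU) a)))
    rw [residue_germ_congr S e (hUV hxU) (hOV htO)]
    rw [← ConcreteCategory.comp_apply (S.residue (h y')) (h.residueFieldMap y'), Scheme.residue_residueFieldMap,
      ConcreteCategory.comp_apply, Scheme.Hom.germ_stalkMap_apply]
    exact congrArg _ (T.presheaf.germ_res_apply (homOfLE hOV) y' htO _)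
  haveI : Nontrivial (κ ⊗[Γ(S, V)] Γ(F, U)) := by
    by_contra hn
    rw [not_nontrivial_iff_subsingleton] at hn
    letI := FlatMod.moduleStalkOver u F x
    refine hne (Submodule.eq_top_iff'.2 fun w => ?_)
    let R := S.presheaf.stalk (u x)
    letI : Algebra Γ(S, V) R := QCoh.stalkAlg (hUV hxU)
    letI : Module Γ(S, V) (F.presheaf.stalk x) := Module.compHom _ (algebraMap Γ(S, V) R)
    haveI : IsScalarTower Γ(S, V) R (F.presheaf.stalk x) := .of_algebraMap_smul fun _ _ => rfl
    letI := QCoh.stalkModule F hxU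
    haveI := QCoh.isLocalizedModule_germLin hF hU hxU
    let l : Γ(F, U) →ₗ[Γ(S, V)] F.presheaf.stalk x :=
      { toFun := fun m => F.presheaf.germ U x hxU m
        map_add' := fun a b => by rw [map_add]
        map_smul' := fun a m => by
          show F.presheaf.germ U x hxU ((u.appLE V U hUV a) • m) =
            u.stalkMap x (S.presheaf.germ V (u x) (hUV hxU) a) • F.presheaf.germ U x hxU m
          rw [QCoh.germ_smul', Scheme.Hom.germ_stalkMap_apply]
          exact congrArg (fun r => r • F.presheaf.germ U x hxU m)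
            (X.presheaf.germ_res_apply (homOfLE hUV) x hxU _) }
    obtain ⟨⟨m, s⟩, hs⟩ := IsLocalizedModule.surj (hU.primeIdealOf ⟨x, hxU⟩).asIdeal.primeCompl (QCoh.germLin F hxU) w
    have hm : F.presheaf.germ U x hxU m ∈ IsLocalRing.maximalIdeal R • (⊤ : Submodule R (F.presheaf.stalk x)) := by
      exact mem_maximal_smul (K := κ) (S.residue (u x)).hom IsLocalRing.residue_surjective (fun _ => rfl) l m
    have hsu : IsUnit (X.presheaf.germ U x hxU s.1) :=
      (X.mem_basicOpen s.1 x hxU).1 ((QCoh.mem_basicOpen_iff_notMem hU hxU _).2 s.2)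
    have hclosed : ∀ (c : X.presheaf.stalk x) (z : F.presheaf.stalk x),
        z ∈ IsLocalRing.maximalIdeal R • (⊤ : Submodule R (F.presheaf.stalk x)) →
        c • z ∈ IsLocalRing.maximalIdeal R • (⊤ : Submodule R (F.presheaf.stalk x)) := fun c z hz => by
      induction hz using Submodule.smul_induction_on' with
      | smul r hr z _ =>
        have : c • r • z = r • c • z := smul_comm c (u.stalkMap x r) z
        rw [this]
        exact Submodule.smul_mem_smul hr Submodule.mem_top
      | add z _ z' _ hz hz' => rw [smul_add]; exact add_mem hz hz'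
    have hw : w = hsu.unit⁻¹.val • F.presheaf.germ U x hxU m := by
      rw [show F.presheaf.germ U x hxU m = X.presheaf.germ U x hxU s.1 • w from hs.symm, ← mul_smul,
        IsUnit.val_inv_mul, one_smul]
    rw [hw]
    exact hclosed _ _ hm
  haveI : Nontrivial (κ' ⊗[κ] (κ ⊗[Γ(S, V)] Γ(F, U))) := inferInstance
  haveI : Nontrivial (Γ(N, W) ⊗[Γ(T, O)] κ') :=
    (((eN.rTensor κ').trans (TensorProduct.comm _ _ _)).toEquiv.trans
      ((AlgebraTensorModule.cancelBaseChange Γ(S, V) Γ(T, O) κ' κ' Γ(F, U)).toEquiv.trans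
        (AlgebraTensorModule.cancelBaseChange Γ(S, V) κ κ' κ' Γ(F, U)).symm.toEquiv)).nontrivial
  obtain ⟨P, n, hP, hPq, hPn⟩ := exists_prime (O := Γ(T, O)) (B := Γ(X', W)) (N := Γ(N, W)) (κ := κ')
  obtain ⟨x', hx', hxP⟩ := QCoh.exists_point hW ⟨P, hP⟩
  have hmem : ∀ a : Γ(T, O), a ∈ (hO.primeIdealOf ⟨u' x', hx'.2⟩).asIdeal ↔ algebraMap Γ(T, O) Γ(X', W) a ∈ P := by
    intro a
    have hP' : (hW.primeIdealOf ⟨x', hx'⟩).asIdeal = P := by rw [hxP]
    rw [← hP', ← residue_germ_eq_zero_iff hO, ← residue_germ_eq_zero_iff hW]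
    have h1 : X'.residue x' (X'.presheaf.germ W x' hx' (algebraMap Γ(T, O) Γ(X', W) a)) =
        u'.residueFieldMap x' (T.residue (u' x') (T.presheaf.germ O (u' x') hx'.2 a)) := by
      rw [← ConcreteCategory.comp_apply (T.residue (u' x')) (u'.residueFieldMap x'), Scheme.residue_residueFieldMap,
        ConcreteCategory.comp_apply, Scheme.Hom.germ_stalkMap_apply]
      exact congrArg _ (X'.presheaf.germ_res_apply (homOfLE inf_le_right) x' hx' _)
    rw [h1]
    exact (map_eq_zero (u'.residueFieldMap x').hom).symm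
  have hy : u' x' = y' := by
    have h2 : hO.primeIdealOf ⟨u' x', hx'.2⟩ = hO.primeIdealOf ⟨y', htO⟩ := by
      refine PrimeSpectrum.ext (Ideal.ext fun a => ?_)
      rw [hmem, ← residue_germ_eq_zero_iff hO htO]
      exact Ideal.ext_iff.1 hPq a
    have a := hO.fromSpec_primeIdealOf ⟨u' x', hx'.2⟩
    have b := hO.fromSpec_primeIdealOf ⟨y', htO⟩
    rw [h2] at a
    exact a.symm.trans b
  refine ⟨x', hy, fun htop => ?_⟩
  subst hy
  letI := FlatMod.moduleStalkOver u' N x'
  letI := QCoh.stalkModule N hx'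
  haveI hloc : IsLocalizedModule P.primeCompl (QCoh.germLin N hx') := by
    have := QCoh.isLocalizedModule_germLin (QCoh.isQCoh_pullback g' hF) hW hx'
    simp only [hxP] at this
    exact this
  let E := Γ(N, W) ⊗[Γ(T, O)] κ'
  let l : Γ(N, W) →ₗ[Γ(X', W)] E :=
    { toFun := fun m => m ⊗ₜ[Γ(T, O)] (1 : κ')
      map_add' := fun a b => TensorProduct.add_tmul a b 1
      map_smul' := fun b m => (TensorProduct.smul_tmul' b m (1 : κ')).symm }
  let ψ : N.presheaf.stalk x' →ₗ[Γ(X', W)] LocalizedModule P.primeCompl E :=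
    IsLocalizedModule.map P.primeCompl (QCoh.germLin N hx') (LocalizedModule.mkLinearMap P.primeCompl E) l
  have hq : ∀ (a : Γ(T, O)), a ∈ (hO.primeIdealOf ⟨u' x', hx'.2⟩).asIdeal →
      ∀ z : LocalizedModule P.primeCompl E, algebraMap Γ(T, O) Γ(X', W) a • z = 0 := fun a ha z => by
    have hker : algebraMap Γ(T, O) κ' a = 0 := (residue_germ_eq_zero_iff hO htO a).2 ha
    have hE : ∀ m : E, algebraMap Γ(T, O) Γ(X', W) a • m = 0 := fun m => by
      induction m using TensorProduct.induction_on with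
      | zero => rw [smul_zero]
      | add c d hc hd => rw [smul_add, hc, hd, add_zero]
      | tmul m c =>
        rw [TensorProduct.smul_tmul', algebraMap_smul, TensorProduct.smul_tmul, Algebra.smul_def, hker, zero_mul,
          TensorProduct.tmul_zero]
    induction z using LocalizedModule.induction_on with
    | _ m s => rw [LocalizedModule.smul'_mk, hE, LocalizedModule.zero_mk]
  have hzero : ∀ w : N.presheaf.stalk x', ψ w = 0 := fun w => by
    have hw : w ∈ IsLocalRing.maximalIdeal (T.presheaf.stalk (u' x')) •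
        (⊤ : Submodule (T.presheaf.stalk (u' x')) (N.presheaf.stalk x')) := (Submodule.eq_top_iff'.1 htop) w
    induction hw using Submodule.smul_induction_on' with
    | add a _ b _ ha hb => rw [map_add, ha, hb, add_zero]
    | smul r hr z _ =>
      letI : Algebra Γ(T, O) (T.presheaf.stalk (u' x')) := QCoh.stalkAlg hx'.2
      haveI := QCoh.isLocalization_stalk' hO hx'.2
      obtain ⟨⟨a, s⟩, hrs⟩ := IsLocalization.surj (hO.primeIdealOf ⟨u' x', hx'.2⟩).asIdeal.primeCompl r
      have ha : a ∈ (hO.primeIdealOf ⟨u' x', hx'.2⟩).asIdeal := by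
        rw [← residue_germ_eq_zero_iff hO]
        refine (IsLocalRing.residue_eq_zero_iff _).2 ?_
        have := Ideal.mul_mem_right (algebraMap Γ(T, O) (T.presheaf.stalk (u' x')) s.1) _ hr
        rw [hrs] at this
        exact this
      have hact : ∀ (c : Γ(T, O)) (z : N.presheaf.stalk x'),
          algebraMap Γ(T, O) (T.presheaf.stalk (u' x')) c • z = algebraMap Γ(T, O) Γ(X', W) c • z := fun c z => by
        show u'.stalkMap x' (T.presheaf.germ O (u' x') hx'.2 c) • z = X'.presheaf.germ W x' hx' (u'.appLE O W inf_le_right c) • z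
        rw [Scheme.Hom.germ_stalkMap_apply]
        exact congrArg (fun t => t • z) (X'.presheaf.germ_res_apply (homOfLE inf_le_right) x' hx' _).symm
      have h3 : algebraMap Γ(T, O) Γ(X', W) s.1 • ψ (r • z) = 0 := by
        rw [← map_smul, ← hact, ← mul_smul, mul_comm, hrs, hact, map_smul]
        exact hq a ha _
      have hsP : algebraMap Γ(T, O) Γ(X', W) s.1 ∈ P.primeCompl := fun hs => s.2 ((hmem s.1).2 hs)
      exact ((Module.End.isUnit_iff _).1 (IsLocalizedModule.map_units (LocalizedModule.mkLinearMap P.primeCompl E)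
        ⟨_, hsP⟩)).1 (h3.trans (map_zero _).symm)
  have h4 := hzero (QCoh.germLin N hx' n)
  rw [show ψ (QCoh.germLin N hx' n) = LocalizedModule.mkLinearMap P.primeCompl E (l n) from
    IsLocalizedModule.map_apply _ _ _ _ _] at h4
  obtain ⟨c, hc'⟩ := (IsLocalizedModule.eq_zero_iff P.primeCompl (LocalizedModule.mkLinearMap P.primeCompl E)).1 h4
  exact hPn c.1 c.2 hc'

end Groth.Agent.FlatBC5
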